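import Groth.Agent.P1SC24.Cover
import Groth.Agent.CurveRR24.GenusZero
import Groth.Agent.CurveRR24.DegOneApps
import Groth.Agent.Coherent.GeomConnected
import Groth.Agent.AbVarLib.GeomIntegralSmooth
import Mathlib.AlgebraicGeometry.Morphisms.Descent

/-! # Reductions to the algebraic closure -/

set_option autoImplicit false
set_option linter.style.haveILetI false
set_option backward.isDefEq.respectTransparency.types false
set_option maxHeartbeats 800000

universe u

open AlgebraicGeometry CategoryTheory CategoryTheory.Limits Opposite TopologicalSpace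
open Groth.Agent.Coherent Groth.Agent.PicLib Groth.Agent.AmpleLib Groth.Agent.EulerLib

namespace Groth.Agent.P1SC24

variable (k : Type u) [Field k] {X : Scheme.{u}} [X.Over (Spec (CommRingCat.of k))]
  [IsProper (X ↘ Spec (CommRingCat.of k))]

/-- A proper scheme with one-dimensional functions is geometrically connected. -/
theorem geometricallyConnected_of_h0 (h0 : Module.finrank k (Coh.HH X (Coh.structureModule X) 0) = 1) :
    GeometricallyConnected (X ↘ Spec (CommRingCat.of k)) := by
  let q := X ↘ Spec (CommRingCat.of k)
  rw [(CurveRR24.hhZero k (Coh.structureModule X)).finrank_eq] at h0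
  haveI : Nontrivial Γ(X, (⊤ : X.Opens)) := by
    haveI := Module.nontrivial_of_finrank_pos (R := k) (M := GA (baseHom k X) (Coh.structureModule X))
      (by rw [h0]; exact one_pos)
    exact this
  let F : k →ₗ[k] GA (baseHom k X) (Coh.structureModule X) :=
    { toFun := fun c => (show Γ(Coh.structureModule X, ⊤) from baseHom k X c)
      map_add' := fun a b => map_add (baseHom k X) a b
      map_smul' := fun a b => map_mul (baseHom k X) a b }
  have hinj : Function.Injective F := fun a b h => (baseHom k X).injective h
  haveI : Module.Finite k (GA (baseHom k X) (Coh.structureModule X)) :=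
    Module.finite_of_finrank_pos (by rw [h0]; exact one_pos)
  have hF : Function.Bijective F :=
    ⟨hinj, (LinearMap.injective_iff_surjective_of_finrank_eq_finrank ((Module.finrank_self k).trans h0.symm)).1 hinj⟩
  have htop : IsIso q.appTop := by
    rw [ConcreteCategory.isIso_iff_bijective]
    have hb : Function.Bijective ((Scheme.ΓSpecIso (CommRingCat.of k)).inv) :=
      ConcreteCategory.bijective_of_isIso _
    exact (Function.Bijective.of_comp_iff _ hb).1 hF
  refine Coherent.geometricallyConnected_of_isIso_app q fun V => ?_
  rcases eq_or_ne V ⊥ with rfl | hV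
  · haveI : Subsingleton Γ(Spec (CommRingCat.of k), (⊥ : (Spec (CommRingCat.of k)).Opens)) :=
      CommRingCat.subsingleton_of_isTerminal (Spec (CommRingCat.of k)).sheaf.isTerminalOfEmpty
    haveI : Subsingleton Γ(X, q ⁻¹ᵁ (⊥ : (Spec (CommRingCat.of k)).Opens)) :=
      CommRingCat.subsingleton_of_isTerminal X.sheaf.isTerminalOfEmpty
    exact (ConcreteCategory.isIso_iff_bijective _).2
      ⟨fun a b _ => Subsingleton.elim a b, fun b => ⟨0, Subsingleton.elim _ _⟩⟩
  · obtain rfl : V = ⊤ := by
      refine top_le_iff.1 fun x _ => ?_
      obtain ⟨y, hy⟩ := (Opens.ne_bot_iff_nonempty V).1 hV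
      rwa [@Subsingleton.elim _ (inferInstanceAs (Subsingleton (PrimeSpectrum k))) x y]
    exact htop

end Groth.Agent.P1SC24
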