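import Groth.Agent.EmbLib24.Coord
import Groth.Agent.P1Lib24.Basic
import Mathlib.Algebra.Polynomial.Eval.Defs

/-! # The two chart rings of the projective line -/

set_option autoImplicit false
set_option backward.isDefEq.respectTransparency.types false
set_option maxHeartbeats 800000

universe u

open AlgebraicGeometry CategoryTheory Opposite HomogeneousLocalization TopologicalSpace
open Groth.Agent.EmbLib24

namespace Groth.Agent.P1SC24

variable (k : Type u) [Field k] (i : Fin (1 + 1))

/-- `k[t] → (k[X₀,X₁]_{Xᵢ})₀`, `t ↦ X_{1-i}/Xᵢ`. -/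
noncomputable def sigma : Polynomial k →+* Away (CohB1.polyGrading 1 k) (MvPolynomial.X i : MvPolynomial (Fin (1 + 1)) k) :=
  @Polynomial.eval₂RingHom k (Away (CohB1.polyGrading 1 k) (MvPolynomial.X i : MvPolynomial (Fin (1 + 1)) k)) _ _ (awayConst 1 k i) (coordFrac 1 k i i.rev)

theorem chartEquiv_coordFrac :
    P1Lib24.chartEquiv k i (coordFrac 1 k i i.rev) = MvPolynomial.X PUnit.unit := by
  let Xi : MvPolynomial (Fin (1 + 1)) k := MvPolynomial.X i
  have h1 : algebraMap (Away (CohB1.polyGrading 1 k) Xi) (Localization.Away Xi) (coordFrac 1 k i i.rev) *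
        algebraMap (MvPolynomial (Fin (1 + 1)) k) (Localization.Away Xi) Xi =
      algebraMap (MvPolynomial (Fin (1 + 1)) k) (Localization.Away Xi)
        (MvPolynomial.X i.rev : MvPolynomial (Fin (1 + 1)) k) := by
    rw [HomogeneousLocalization.algebraMap_apply, coordFrac, Away.val_mk, Localization.mk_eq_mk']
    have := IsLocalization.mk'_spec (Localization.Away Xi) (MvPolynomial.X i.rev : MvPolynomial (Fin (1 + 1)) k)
      (⟨Xi ^ 1, 1, rfl⟩ : Submonoid.powers Xi)
    simp only [pow_one] at this ⊢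
    exact this
  have h2 := congrArg (ProjLib.evalOne (f := Xi)) h1
  rw [map_mul] at h2
  have e : ∀ a, ProjLib.evalOne (f := Xi) (algebraMap _ (Localization.Away Xi) a) = Ideal.Quotient.mk _ a :=
    fun a => IsLocalization.Away.lift_eq _ _ _
  rw [e, e, show Ideal.Quotient.mk (Ideal.span {Xi - 1}) Xi = 1 from
    Ideal.Quotient.eq.mpr (Ideal.mem_span_singleton_self _), mul_one] at h2
  show P1Lib24.dehomAlgEquiv k i (ProjLib.evalOne (algebraMap _ _ (coordFrac 1 k i i.rev))) = _
  rw [h2]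
  have h : i.rev ≠ i := by clear * - k; revert i; decide
  simp only [P1Lib24.dehomAlgEquiv, AlgEquiv.ofAlgHom_apply, Ideal.Quotient.liftₐ_apply]
  erw [Ideal.Quotient.lift_mk]
  simp [h]

theorem chartEquiv_awayConst (c : k) : P1Lib24.chartEquiv k i (awayConst 1 k i c) = MvPolynomial.C c :=
  P1Lib24.chartEquiv_toAway k i c

theorem bijective_sigma : Function.Bijective (sigma k i) := by
  let ψ : Away (CohB1.polyGrading 1 k) (MvPolynomial.X i : MvPolynomial (Fin (1 + 1)) k) ≃+* Polynomial k :=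
    (P1Lib24.chartEquiv k i).trans (MvPolynomial.uniqueAlgEquiv k PUnit.{u + 1}).toRingEquiv
  have h : (ψ : _ →+* Polynomial k).comp (sigma k i) = RingHom.id _ := by
    refine Polynomial.ringHom_ext (fun c => ?_) ?_
    · show MvPolynomial.uniqueAlgEquiv k PUnit.{u + 1}
        (P1Lib24.chartEquiv k i (sigma k i (Polynomial.C c))) = _
      rw [show sigma k i (Polynomial.C c) = awayConst 1 k i c from Polynomial.eval₂_C _ _,
        chartEquiv_awayConst]
      exact AlgEquiv.commutes _ c
    · show MvPolynomial.uniqueAlgEquiv k PUnit.{u + 1}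
        (P1Lib24.chartEquiv k i (sigma k i Polynomial.X)) = _
      rw [show sigma k i Polynomial.X = coordFrac 1 k i i.rev from Polynomial.eval₂_X _ _, chartEquiv_coordFrac]
      simp
  have hh : ∀ p, ψ (sigma k i p) = p := fun p => RingHom.congr_fun h p
  exact ⟨fun a b hab => by rw [← hh a, ← hh b, hab], fun z => ⟨ψ z, ψ.injective (hh _)⟩⟩

/-- `k[t] ≅ Γ(Uᵢ)`. -/
noncomputable def chartRing : Polynomial k →+* Γ(CohB1.ProjSpace 1 k, chart 1 k i) :=
  (Proj.awayToSection (CohB1.polyGrading 1 k) (MvPolynomial.X i)).hom.comp (sigma k i)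

theorem bijective_awayToSection (x : MvPolynomial (Fin (1 + 1)) k) {d : ℕ} (hd : 0 < d)
    (hx : x ∈ CohB1.polyGrading 1 k d) : Function.Bijective (Proj.awayToSection (CohB1.polyGrading 1 k) x) :=
  (ConcreteCategory.isIso_iff_bijective _).1
    (inferInstanceAs (IsIso (Proj.basicOpenIsoAway (CohB1.polyGrading 1 k) x hx hd).hom))

theorem bijective_chartRing : Function.Bijective (chartRing k i) :=
  (bijective_awayToSection k _ one_pos (MvPolynomial.isHomogeneous_X k i)).comp (bijective_sigma k i)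

theorem chartRing_C (c : k) : chartRing k i (Polynomial.C c) = gl (CohB1.ProjSpace.toSpec 1 k) (chart 1 k i) c := by
  show (Proj.awayToSection _ _).hom (sigma k i (Polynomial.C c)) = _
  rw [show sigma k i (Polynomial.C c) = awayConst 1 k i c from Polynomial.eval₂_C _ _]
  exact awayToSection_const 1 k i c

theorem chart_cover : chart 1 k 0 ⊔ chart 1 k 1 = ⊤ := by
  refine top_le_iff.1 fun y _ => ?_
  have h : y ∈ ⨆ i, Proj.basicOpen (CohB1.polyGrading 1 k) (MvPolynomial.X i) :=
    (ProjLib.iSup_basicOpen_X 1 k).symm ▸ trivial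
  obtain ⟨i, hi⟩ := Opens.mem_iSup.1 h
  fin_cases i
  · exact Or.inl hi
  · exact Or.inr hi

/-- The overlap `U₀ ∩ U₁`. -/
noncomputable abbrev overlap : (CohB1.ProjSpace 1 k).Opens :=
  Proj.basicOpen (CohB1.polyGrading 1 k) (MvPolynomial.X 0 * MvPolynomial.X 1)

theorem overlap_eq : overlap k = chart 1 k 0 ⊓ chart 1 k 1 := Proj.basicOpen_mul _ _ _

theorem overlap_le : overlap k ≤ chart 1 k i := by
  rw [overlap_eq]
  fin_cases i
  · exact inf_le_left
  · exact inf_le_right

/-- `k[t] → Γ(U₀ ∩ U₁)` through the chart `i`. -/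
noncomputable def toOverlap : Polynomial k →+* Γ(CohB1.ProjSpace 1 k, overlap k) :=
  ((CohB1.ProjSpace 1 k).presheaf.map (homOfLE (overlap_le k i)).op).hom.comp (chartRing k i)

theorem toOverlap_C (c : k) : toOverlap k i (Polynomial.C c) = gl (CohB1.ProjSpace.toSpec 1 k) (overlap k) c := by
  show (CohB1.ProjSpace 1 k).presheaf.map _ (chartRing k i _) = _
  rw [chartRing_C]
  exact res_gl _ _ c

theorem mul_X_eq : (MvPolynomial.X 0 * MvPolynomial.X 1 : MvPolynomial (Fin (1 + 1)) k) =
    MvPolynomial.X i * MvPolynomial.X i.rev := by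
  fin_cases i
  · rfl
  · exact mul_comm _ _

theorem mem_two : (MvPolynomial.X 0 * MvPolynomial.X 1 : MvPolynomial (Fin (1 + 1)) k) ∈ CohB1.polyGrading 1 k 2 :=
  MvPolynomial.IsHomogeneous.mul (MvPolynomial.isHomogeneous_X k 0) (MvPolynomial.isHomogeneous_X k 1)

theorem toOverlap_apply (p : Polynomial k) : toOverlap k i p =
    Proj.awayToSection (CohB1.polyGrading 1 k) _
      (awayMap (CohB1.polyGrading 1 k) (MvPolynomial.isHomogeneous_X k i.rev) (mul_X_eq k i) (sigma k i p)) :=
  (ConcreteCategory.congr_hom (Proj.awayMap_awayToSection (CohB1.polyGrading 1 k)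
    (MvPolynomial.isHomogeneous_X k i.rev) (mul_X_eq k i)) (sigma k i p)).symm

theorem toOverlap_X_mul : toOverlap k 0 Polynomial.X * toOverlap k 1 Polynomial.X = 1 := by
  rw [toOverlap_apply, toOverlap_apply]
  erw [← map_mul]
  erw [← map_one (Proj.awayToSection (CohB1.polyGrading 1 k)
    (MvPolynomial.X 0 * MvPolynomial.X 1 : MvPolynomial (Fin (1 + 1)) k)).hom]
  congr 1
  refine HomogeneousLocalization.val_injective _ ?_
  rw [val_mul, val_one, show sigma k 0 Polynomial.X = coordFrac 1 k 0 _ from Polynomial.eval₂_X _ _,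
    show sigma k 1 Polynomial.X = coordFrac 1 k 1 _ from Polynomial.eval₂_X _ _]
  simp only [coordFrac, awayMap_mk, Away.val_mk, Localization.mk_mul]
  rw [← Localization.mk_one, Localization.mk_eq_mk_iff, Localization.r_iff_exists]
  refine ⟨1, ?_⟩
  simp
  ring

theorem isLocalization_overlap :
    letI := (awayMap (CohB1.polyGrading 1 k) (MvPolynomial.isHomogeneous_X k i.rev) (mul_X_eq k i)).toAlgebra
    IsLocalization.Away (coordFrac 1 k i i.rev)
      (Away (CohB1.polyGrading 1 k) (MvPolynomial.X 0 * MvPolynomial.X 1 : MvPolynomial (Fin (1 + 1)) k)) := by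
  have h := Away.isLocalization_mul (𝒜 := CohB1.polyGrading 1 k) (MvPolynomial.isHomogeneous_X k i)
    (MvPolynomial.isHomogeneous_X k i.rev) (mul_X_eq k i) one_ne_zero
  convert h using 2
  refine HomogeneousLocalization.val_injective _ ?_
  simp [coordFrac, Away.isLocalizationElem]

theorem exists_mul_pow (l : Γ(CohB1.ProjSpace 1 k, overlap k)) :
    ∃ (m : ℕ) (p : Polynomial k), toOverlap k i Polynomial.X ^ m * l = toOverlap k i p := by
  let _ := (awayMap (CohB1.polyGrading 1 k) (MvPolynomial.isHomogeneous_X k i.rev) (mul_X_eq k i)).toAlgebra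
  haveI := isLocalization_overlap k i
  obtain ⟨z, rfl⟩ := (bijective_awayToSection k _ two_pos
    (mem_two k)).2 l
  obtain ⟨⟨a, ⟨_, m, rfl⟩⟩, hz⟩ := IsLocalization.surj (Submonoid.powers (coordFrac 1 k i i.rev)) z
  obtain ⟨p, hp⟩ := (bijective_sigma k i).2 a
  refine ⟨m, p, ?_⟩
  rw [toOverlap_apply, toOverlap_apply]
  erw [← map_pow, ← map_mul, hp]
  rw [
    show sigma k i Polynomial.X = coordFrac 1 k i _ from Polynomial.eval₂_X _ _]
  congr 1
  exact (mul_comm _ _).trans (by simpa [map_pow, RingHom.algebraMap_toAlgebra] using hz)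

theorem toOverlap_injective : Function.Injective (toOverlap k i) := by
  let _ := (awayMap (CohB1.polyGrading 1 k) (MvPolynomial.isHomogeneous_X k i.rev) (mul_X_eq k i)).toAlgebra
  haveI := isLocalization_overlap k i
  intro p q hpq
  rw [toOverlap_apply, toOverlap_apply] at hpq
  have := (bijective_awayToSection k _ two_pos
    (mem_two k)).1 hpq
  obtain ⟨⟨_, m, rfl⟩, hm⟩ := (IsLocalization.eq_iff_exists (Submonoid.powers (coordFrac 1 k i i.rev)) _).1 this
  have h2 : sigma k i (Polynomial.X ^ m * p) = sigma k i (Polynomial.X ^ m * q) := by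
    rw [map_mul, map_mul, map_pow, show sigma k i Polynomial.X = coordFrac 1 k i _ from Polynomial.eval₂_X _ _]
    exact hm
  exact mul_left_cancel₀ (pow_ne_zero m Polynomial.X_ne_zero) ((bijective_sigma k i).1 h2)

theorem overlap_eq_basicOpen : overlap k = (CohB1.ProjSpace 1 k).basicOpen (chartRing k i Polynomial.X) := by
  let 𝒜 := CohB1.polyGrading 1 k
  have hd : (MvPolynomial.X i : MvPolynomial (Fin (1 + 1)) k) ∈ 𝒜 1 := MvPolynomial.isHomogeneous_X k i
  let ι := Proj.awayι 𝒜 (MvPolynomial.X i) hd one_pos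
  let P := Proj 𝒜
  have h1 : ι ⁻¹ᵁ chart 1 k i.rev = PrimeSpectrum.basicOpen (coordFrac 1 k i i.rev) := by
    refine (Proj.awayι_preimage_basicOpen 𝒜 hd one_pos (MvPolynomial.isHomogeneous_X k i.rev) one_pos).trans ?_
    congr 1
    refine HomogeneousLocalization.val_injective _ ?_
    simp only [coordFrac, Away.isLocalizationElem, Away.val_mk, pow_one]
    erw [Away.val_mk]
    congr 1
    exact Subtype.ext (pow_one _).symm
  have h2 : ι ⁻¹ᵁ P.basicOpen (chartRing k i Polynomial.X) = PrimeSpectrum.basicOpen (coordFrac 1 k i i.rev) := by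
    have e : chartRing k i Polynomial.X = Proj.awayToSection 𝒜 (MvPolynomial.X i) (coordFrac 1 k i i.rev) :=
      congrArg (Proj.awayToSection 𝒜 (MvPolynomial.X i)) (Polynomial.eval₂_X _ _)
    rw [e]
    let U := Proj.basicOpen 𝒜 (MvPolynomial.X i)
    have h3 : U.ι ⁻¹ᵁ P.basicOpen (Proj.awayToSection 𝒜 (MvPolynomial.X i) (coordFrac 1 k i i.rev)) =
        Proj.basicOpenToSpec 𝒜 (MvPolynomial.X i) ⁻¹ᵁ PrimeSpectrum.basicOpen (coordFrac 1 k i i.rev) := by
      rw [Proj.basicOpenToSpec, Scheme.Hom.comp_preimage]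
      exact (Scheme.Opens.toSpecΓ_preimage_basicOpen U _).symm
    refine (Scheme.Hom.comp_preimage _ _ _).trans ?_
    refine (congrArg ((Proj.basicOpenIsoSpec 𝒜 _ hd one_pos).inv ⁻¹ᵁ ·) h3).trans ?_
    refine (Scheme.Hom.comp_preimage _ _ _).symm.trans ?_
    rw [← Proj.basicOpenIsoSpec_hom 𝒜 _ hd one_pos, Iso.inv_hom_id]
    rfl
  have hr : ι.opensRange = chart 1 k i := Proj.opensRange_awayι 𝒜 _ hd one_pos
  have key : ∀ V : P.Opens, V ≤ chart 1 k i → V = ι ''ᵁ (ι ⁻¹ᵁ V) := fun V hV => by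
    refine Eq.trans ?_ (Scheme.Hom.image_preimage_eq_opensRange_inf ι V).symm
    exact (inf_eq_right.2 (hV.trans hr.ge)).symm
  have hov : overlap k = chart 1 k i ⊓ chart 1 k i.rev := by
    rw [overlap_eq]
    fin_cases i
    · rfl
    · exact inf_comm _ _
  refine (key _ (overlap_le k i)).trans (Eq.trans ?_ (key _ (P.basicOpen_le _)).symm)
  refine congrArg (ι ''ᵁ ·) ?_
  refine Eq.trans ?_ h2.symm
  rw [hov]
  refine (Scheme.Hom.preimage_inf ι).trans ?_
  refine (congrArg (_ ⊓ ·) h1).trans ?_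
  exact inf_eq_right.2 fun y _ => show ι y ∈ chart 1 k i from hr ▸ ⟨y, rfl⟩

end Groth.Agent.P1SC24
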