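import Groth.Agent.P1SC24.Glue
import Groth.Agent.P1SC24.Rings
import Groth.Agent.FiniteEt.Trace
import Groth.Agent.CurveRR24.AlgClosed
import Mathlib.RingTheory.Localization.NormTrace
import Mathlib.AlgebraicGeometry.Morphisms.Finite
import Mathlib.AlgebraicGeometry.Morphisms.Etale

/-! # Finite étale covers of the projective line -/

set_option autoImplicit false
set_option linter.style.haveILetI false
set_option backward.isDefEq.respectTransparency.types false
set_option maxHeartbeats 800000

universe u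

open AlgebraicGeometry CategoryTheory Opposite TopologicalSpace Module Polynomial
open Groth.Agent.EmbLib24 Groth.Agent.Coherent Groth.Agent.EulerLib Groth.Agent.PicLib

namespace Groth.Agent.P1SC24

variable {k : Type u} [Field k] {X : Scheme.{u}} (f : X ⟶ CohB1.ProjSpace 1 k)

/-- Sections over the preimage of the overlap as an algebra over those on the overlap. -/
noncomputable abbrev algOverlap : Algebra Γ(CohB1.ProjSpace 1 k, overlap k) Γ(X, f ⁻¹ᵁ overlap k) :=
  (f.app (overlap k)).hom.toAlgebra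

/-- `k[t] → Γ(f⁻¹Uᵢ)`. -/
noncomputable def coverRing (i : Fin (1 + 1)) : k[X] →+* Γ(X, f ⁻¹ᵁ chart 1 k i) :=
  (f.app (chart 1 k i)).hom.comp (chartRing k i)

theorem finite_coverRing [IsFinite f] (i : Fin (1 + 1)) : (coverRing f i).Finite :=
  (f.finite_app _ (isAffineOpen_chart 1 k i)).comp (RingHom.Finite.of_surjective _ (bijective_chartRing k i).2)

theorem etale_coverRing [IsFinite f] [Etale f] (i : Fin (1 + 1)) : (coverRing f i).Etale := by
  have hU := isAffineOpen_chart 1 k i
  have h : (f.app (chart 1 k i)).hom.Etale := by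
    have := HasRingHomProperty.appLE @Etale f inferInstance ⟨_, hU⟩ ⟨_, hU.preimage f⟩ le_rfl
    rwa [← Scheme.Hom.app_eq_appLE] at this
  exact RingHom.Etale.stableUnderComposition _ _ (RingHom.Etale.of_bijective (bijective_chartRing k i)) h

theorem preimage_overlap (i : Fin (1 + 1)) :
    f ⁻¹ᵁ overlap k = X.basicOpen (coverRing f i Polynomial.X) := by
  rw [overlap_eq_basicOpen k i]
  exact Scheme.preimage_basicOpen f (chartRing k i Polynomial.X)

theorem le_preimage (i : Fin (1 + 1)) : f ⁻¹ᵁ overlap k ≤ f ⁻¹ᵁ chart 1 k i :=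
  f.preimage_mono (overlap_le k i)

theorem app_toOverlap (i : Fin (1 + 1)) (p : k[X]) :
    f.app (overlap k) (toOverlap k i p) =
      X.presheaf.map (homOfLE (le_preimage f i)).op (coverRing f i p) :=
  ConcreteCategory.congr_hom (f.naturality (homOfLE (overlap_le k i)).op) (chartRing k i p)

theorem bijective_algebraMap_of_basis {R B : Type*} [CommRing R] [CommRing B] [Algebra R B]
    (b : Basis (Fin 1) R B) : Function.Bijective (algebraMap R B) := by
  have h : ∀ z, b.repr z 0 • b 0 = z := fun z => by simpa using b.sum_repr z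
  have hu : IsUnit (b.repr 1 0) := by
    have h1 : b.repr (b 0 * b 0) 0 * b.repr 1 0 = 1 := by
      have e : b 0 = (b.repr 1 0 * b.repr (b 0 * b 0) 0) • b 0 := by
        calc b 0 = 1 * b 0 := (one_mul _).symm
          _ = (b.repr 1 0 • b 0) * b 0 := by rw [h]
          _ = b.repr 1 0 • (b.repr (b 0 * b 0) 0 • b 0) := by rw [smul_mul_assoc, h]
          _ = _ := smul_smul _ _ _
      have := congrArg (fun z => b.repr z 0) e
      simpa [mul_comm] using this.symm
    exact IsUnit.of_mul_eq_one_right _ h1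
  obtain ⟨u, hu⟩ := hu
  have hone : ∀ z, algebraMap R B z = (z * u) • b 0 := fun z => by
    rw [mul_smul, hu, h, Algebra.algebraMap_eq_smul_one]
  refine ⟨fun z z' e => ?_, fun z => ⟨b.repr z 0 * (↑u⁻¹ : R), ?_⟩⟩
  · rw [hone, hone] at e
    have := congrArg (fun w => b.repr w 0) e
    simpa using this
  · rw [hone, mul_assoc, Units.inv_mul, mul_one, h]

/-- Integral bases on a chart, with constant discriminant on the overlap. -/
theorem exists_basis [IsFinite f] [Etale f] (i : Fin (1 + 1)) :
    letI := algOverlap f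
    ∃ (n : ℕ) (e : Basis (Fin n) Γ(CohB1.ProjSpace 1 k, overlap k) Γ(X, f ⁻¹ᵁ overlap k))
      (b : Fin n → Γ(X, f ⁻¹ᵁ chart 1 k i)) (d : k[X]),
      (∀ j, e j = X.presheaf.map (homOfLE (le_preimage f i)).op (b j)) ∧ IsUnit d ∧
      Algebra.discr Γ(CohB1.ProjSpace 1 k, overlap k) e = toOverlap k i d ∧
      (n = 0 → IsEmpty (f ⁻¹ᵁ chart 1 k i : X.Opens)) ∧
      (n = 1 → Function.Bijective (f.app (chart 1 k i))) := by
  let B := Γ(X, f ⁻¹ᵁ chart 1 k i)
  let L := Γ(CohB1.ProjSpace 1 k, overlap k)
  let S := Γ(X, f ⁻¹ᵁ overlap k)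
  let _ : Algebra L S := algOverlap f
  let _ : Algebra k[X] B := (coverRing f i).toAlgebra
  haveI : Module.Finite k[X] B := finite_coverRing f i
  haveI : Algebra.Etale k[X] B := RingHom.etale_algebraMap.1 (etale_coverRing f i)
  haveI : Module.Free k[X] B := Module.free_of_finite_type_torsion_free'
  let n := finrank k[X] B
  let b : Basis (Fin n) k[X] B := Module.finBasis k[X] B
  have hd : IsUnit (Algebra.traceMatrix k[X] b).det := by
    have h := (FiniteEt.isUnit_det_iff_etale k[X] B (b.reindex Equiv.ulift.{u}.symm)).2 inferInstance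
    rw [← Algebra.discr_def] at h ⊢
    rwa [Basis.coe_reindex, Algebra.discr_reindex] at h
  let _ : Algebra B S := (X.presheaf.map (homOfLE (le_preimage f i)).op).hom.toAlgebra
  let _ : Algebra k[X] L := (toOverlap k i).toAlgebra
  let _ : Algebra k[X] S := ((f.app (overlap k)).hom.comp (toOverlap k i)).toAlgebra
  haveI : IsScalarTower k[X] L S := IsScalarTower.of_algebraMap_eq fun _ => rfl
  haveI : IsScalarTower k[X] B S := IsScalarTower.of_algebraMap_eq fun p => app_toOverlap f i p
  haveI hL : IsLocalization.Away (Polynomial.X : k[X]) L := by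
    have h0 := (isAffineOpen_chart 1 k i).isLocalization_of_eq_basicOpen (chartRing k i Polynomial.X)
      (homOfLE (overlap_le k i)) (overlap_eq_basicOpen k i)
    let _ := ((CohB1.ProjSpace 1 k).presheaf.map (homOfLE (overlap_le k i)).op).hom.toAlgebra
    have h := @IsLocalization.isLocalization_of_base_ringEquiv _ _
      (Submonoid.powers (chartRing k i Polynomial.X)) L _ _ _ _ h0
      (RingEquiv.ofBijective (chartRing k i) (bijective_chartRing k i)).symm
    rw [Submonoid.map_powers] at h
    have e : (RingEquiv.ofBijective (chartRing k i) (bijective_chartRing k i)).symm (chartRing k i Polynomial.X) =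
        Polynomial.X := (RingEquiv.ofBijective (chartRing k i) (bijective_chartRing k i)).symm_apply_apply _
    convert h using 2
    · exact e.symm
    · exact RingHom.ext fun p => by rfl
  haveI : IsLocalization (Algebra.algebraMapSubmonoid B (Submonoid.powers (Polynomial.X : k[X]))) S := by
    rw [Algebra.algebraMapSubmonoid, Submonoid.map_powers]
    exact (((isAffineOpen_chart 1 k i).preimage f).isLocalization_of_eq_basicOpen (coverRing f i Polynomial.X)
      (homOfLE (le_preimage f i)) (preimage_overlap f i))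
  refine ⟨n, b.localizationLocalization L (Submonoid.powers Polynomial.X) S, fun j => b j,
    Algebra.discr k[X] b, fun j => Basis.localizationLocalization_apply _ _ _ _ _, ?_,
    Algebra.discr_localizationLocalization _ _ _ _, fun hn => ?_, fun hn => ?_⟩
  · rw [Algebra.discr_def]; exact hd
  · haveI : Subsingleton B := by
      haveI : IsEmpty (Fin n) := by rw [hn]; infer_instance
      exact b.repr.toEquiv.subsingleton
    haveI : IsEmpty (Spec B : Scheme.{u}) := inferInstanceAs (IsEmpty (PrimeSpectrum B))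
    exact ((isAffineOpen_chart 1 k i).preimage f).isoSpec.hom.base.hom.1.isEmpty
  · have hb : Function.Bijective (algebraMap k[X] B) := bijective_algebraMap_of_basis (b.reindex (finCongr hn))
    exact (Function.Bijective.of_comp_iff _ (bijective_chartRing k i)).1 hb

/-- The degree of a finite étale cover of the line is at most the dimension of its global functions. -/
theorem exists_card_le [IsFinite f] [Etale f] :
    ∃ n, (∀ i, n = 0 → IsEmpty (f ⁻¹ᵁ chart 1 k i : X.Opens)) ∧
      (∀ i, n = 1 → Function.Bijective (f.app (chart 1 k i))) ∧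
      ∃ g : (Fin n → k) → Γ(X, ⊤), Function.Injective g ∧ (∀ a b, g (a + b) = g a + g b) ∧
        ∀ (c : k) a, g (c • a) = ProjUP.toGlobal (f ≫ CohB1.ProjSpace.toSpec 1 k) c * g a := by
  classical
  obtain ⟨n, e₀, b₀, d₀, he₀, hd₀, hD₀, hem₀, hbi₀⟩ := exists_basis f 0
  obtain ⟨m, e₁, b₁, d₁, he₁, hd₁, hD₁, hem₁, hbi₁⟩ := exists_basis f 1
  let L := Γ(CohB1.ProjSpace 1 k, overlap k)
  let _ : Algebra L Γ(X, f ⁻¹ᵁ overlap k) := algOverlap f
  have hinj := toOverlap_injective k 0
  haveI : Nontrivial L := hinj.nontrivial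
  obtain rfl : n = m := by simpa using Fintype.card_congr (e₀.indexEquiv e₁)
  have hC : ∀ c, toOverlap k 0 (C c) = toOverlap k 1 (C c) := fun c => by rw [toOverlap_C, toOverlap_C]
  obtain ⟨v, hv, hw⟩ := exists_common (toOverlap k 0) (toOverlap k 1) hC (toOverlap_X_mul k) hinj
    (exists_mul_pow k 0) e₀ e₁ hd₀ hd₁ hD₀ hD₁
  refine ⟨n, Fin.forall_fin_two.2 ⟨hem₀, hem₁⟩, Fin.forall_fin_two.2 ⟨hbi₀, hbi₁⟩, ?_⟩
  choose w hw using hw
  have hinj₁ := toOverlap_injective k 1
  have hsum : ∀ a, ∑ i, toOverlap k 0 (v a i) • e₀ i = ∑ j, toOverlap k 1 (w a j) • e₁ j := hw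
  have hwadd : ∀ a b, w (a + b) = w a + w b := fun a b => funext fun j => hinj₁
    (Fintype.linearIndependent_iffₛ.1 e₁.linearIndependent (fun j => toOverlap k 1 (w (a + b) j))
      (fun j => toOverlap k 1 ((w a + w b) j)) (by
        simp only [Pi.add_apply, map_add, add_smul, Finset.sum_add_distrib, ← hsum]) j)
  have hwsmul : ∀ (c : k) a, w (c • a) = c • w a := fun c a => funext fun j => hinj₁
    (Fintype.linearIndependent_iffₛ.1 e₁.linearIndependent (fun j => toOverlap k 1 (w (c • a) j))
      (fun j => toOverlap k 1 ((c • w a) j)) (by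
        simp only [Pi.smul_apply, Polynomial.smul_eq_C_mul, map_mul, mul_smul, ← Finset.smul_sum, ← hsum,
          ← hC, map_smul]) j)
  let s₀ := fun (a : Fin n → k) => ∑ j, coverRing f 0 (v a j) * b₀ j
  let s₁ := fun (a : Fin n → k) => ∑ j, coverRing f 1 (w a j) * b₁ j
  have hres₀ : ∀ a, X.presheaf.map (homOfLE (le_preimage f 0)).op (s₀ a) = ∑ j, toOverlap k 0 (v a j) • e₀ j := by
    intro a
    rw [map_sum]
    refine Finset.sum_congr rfl fun j _ => ?_
    rw [map_mul, ← app_toOverlap, ← he₀]
    rfl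
  have hres₁ : ∀ a, X.presheaf.map (homOfLE (le_preimage f 1)).op (s₁ a) = ∑ j, toOverlap k 1 (w a j) • e₁ j := by
    intro a
    rw [map_sum]
    refine Finset.sum_congr rfl fun j _ => ?_
    rw [map_mul, ← app_toOverlap, ← he₁]
    rfl
  have hcov : f ⁻¹ᵁ chart 1 k 0 ⊔ f ⁻¹ᵁ chart 1 k 1 = ⊤ := by
    rw [← Scheme.Hom.preimage_sup, chart_cover]; rfl
  have hmeet : f ⁻¹ᵁ chart 1 k 0 ⊓ f ⁻¹ᵁ chart 1 k 1 ≤ f ⁻¹ᵁ overlap k := by rw [overlap_eq]; rfl
  have hglue : ∀ a, ∃ t : Γ(X, ⊤), X.presheaf.map (homOfLE (le_top (a := f ⁻¹ᵁ chart 1 k 0))).op t = s₀ a ∧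
      X.presheaf.map (homOfLE (le_top (a := f ⁻¹ᵁ chart 1 k 1))).op t = s₁ a := by
    intro a
    obtain ⟨t, ht, -⟩ := X.sheaf.existsUnique_gluing' ![f ⁻¹ᵁ chart 1 k 0, f ⁻¹ᵁ chart 1 k 1] ⊤
      (fun i => homOfLE le_top) (by rw [← hcov]; exact sup_le (le_iSup_of_le 0 le_rfl) (le_iSup_of_le 1 le_rfl))
      (Fin.cons (s₀ a) (Fin.cons (s₁ a) finZeroElim)) (by
        have key : X.presheaf.map (homOfLE (le_preimage f 0)).op (s₀ a) =
            X.presheaf.map (homOfLE (le_preimage f 1)).op (s₁ a) := by rw [hres₀, hres₁, hsum]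
        have key' := congrArg (X.presheaf.map (homOfLE hmeet).op) key
        rw [← ConcreteCategory.comp_apply, ← ConcreteCategory.comp_apply, ← X.presheaf.map_comp,
          ← X.presheaf.map_comp] at key'
        intro i j
        fin_cases i <;> fin_cases j
        · rfl
        · exact key'
        · have := congrArg (X.presheaf.map (homOfLE (inf_comm (f ⁻¹ᵁ chart 1 k 0) _).ge).op) key'
          rw [← ConcreteCategory.comp_apply, ← ConcreteCategory.comp_apply, ← X.presheaf.map_comp,
            ← X.presheaf.map_comp] at this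
          exact this.symm
        · rfl)
    exact ⟨t, ht 0, ht 1⟩
  choose g hg₀ hg₁ using hglue
  have hsep : ∀ t t' : Γ(X, ⊤), X.presheaf.map (homOfLE (le_top (a := f ⁻¹ᵁ chart 1 k 0))).op t =
      X.presheaf.map (homOfLE (le_top (a := f ⁻¹ᵁ chart 1 k 0))).op t' →
      X.presheaf.map (homOfLE (le_top (a := f ⁻¹ᵁ chart 1 k 1))).op t =
      X.presheaf.map (homOfLE (le_top (a := f ⁻¹ᵁ chart 1 k 1))).op t' → t = t' := fun t t' h h' =>
    X.sheaf.eq_of_locally_eq₂ (homOfLE le_top) (homOfLE le_top) (by rw [hcov]) t t' h h'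
  refine ⟨g, fun a a' haa => ?_, fun a b => hsep _ _ ?_ ?_, fun c a => hsep _ _ ?_ ?_⟩
  · have h := congrArg (X.presheaf.map (homOfLE (le_top (a := f ⁻¹ᵁ chart 1 k 0))).op) haa
    rw [hg₀, hg₀] at h
    have h' := congrArg (X.presheaf.map (homOfLE (le_preimage f 0)).op) h
    rw [hres₀, hres₀] at h'
    exact hv (funext fun j => hinj (Fintype.linearIndependent_iffₛ.1 e₀.linearIndependent _ _ h' j))
  · simp only [map_add, hg₀, s₀, Pi.add_apply, add_mul, Finset.sum_add_distrib]
  · simp only [map_add, hg₁, s₁, hwadd, Pi.add_apply, add_mul, Finset.sum_add_distrib]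
  · have e : X.presheaf.map (homOfLE (le_top (a := f ⁻¹ᵁ chart 1 k 0))).op
        (ProjUP.toGlobal (f ≫ CohB1.ProjSpace.toSpec 1 k) c) = coverRing f 0 (C c) := by
      rw [coverRing, RingHom.comp_apply, chartRing_C, Scheme.Hom.app_eq_appLE]
      exact (appLE_gl rfl le_rfl c).symm
    rw [map_mul, e, hg₀, hg₀]
    simp only [s₀, map_smul, Pi.smul_apply, Polynomial.smul_eq_C_mul, map_mul, mul_assoc, Finset.mul_sum]
  · have e : X.presheaf.map (homOfLE (le_top (a := f ⁻¹ᵁ chart 1 k 1))).op
        (ProjUP.toGlobal (f ≫ CohB1.ProjSpace.toSpec 1 k) c) = coverRing f 1 (C c) := by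
      rw [coverRing, RingHom.comp_apply, chartRing_C, Scheme.Hom.app_eq_appLE]
      exact (appLE_gl rfl le_rfl c).symm
    rw [map_mul, e, hg₁, hg₁]
    simp only [s₁, hwsmul, Pi.smul_apply, Polynomial.smul_eq_C_mul, map_mul, mul_assoc, Finset.mul_sum]

/-- A finite étale cover of the projective line with one-dimensional global functions is trivial. -/
theorem isIso_of_finrank [IsFinite f] [Etale f] [X.Over (Spec (CommRingCat.of k))]
    (hX : X ↘ Spec (CommRingCat.of k) = f ≫ CohB1.ProjSpace.toSpec 1 k)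
    (h1 : finrank k (Coh.HH X (Coh.structureModule X) 0) = 1) : IsIso f := by
  obtain ⟨n, hem, hbij, g, hg, hadd, hsmul⟩ := exists_card_le f
  rw [(CurveRR24.hhZero k (Coh.structureModule X)).finrank_eq] at h1
  let G : (Fin n → k) →ₗ[k] GA (baseHom k X) (Coh.structureModule X) :=
    { toFun := fun a => (show Γ(Coh.structureModule X, ⊤) from g a)
      map_add' := hadd
      map_smul' := fun c a => by
        have h := hsmul c a
        rw [← hX] at h
        exact h }
  haveI : Module.Finite k (GA (baseHom k X) (Coh.structureModule X)) :=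
    Module.finite_of_finrank_pos (by rw [h1]; exact one_pos)
  have hn : n ≤ 1 := by
    have := LinearMap.finrank_le_finrank_of_injective (f := G) hg
    rw [h1, Module.finrank_fin_fun] at this
    exact this
  rcases Nat.le_one_iff_eq_zero_or_eq_one.1 hn with hn0 | hn1
  · exfalso
    haveI : IsEmpty X := ⟨fun x => by
      rcases (show f x ∈ chart 1 k 0 ⊔ chart 1 k 1 from (chart_cover k).symm ▸ trivial) with h | h
      · exact (hem 0 hn0).false ⟨x, h⟩
      · exact (hem 1 hn0).false ⟨x, h⟩⟩
    haveI : Subsingleton Γ(X, (⊤ : X.Opens)) := inferInstance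
    haveI : Subsingleton (GA (baseHom k X) (Coh.structureModule X)) := this
    rw [Module.finrank_zero_of_subsingleton] at h1
    exact absurd h1 zero_ne_one
  · rw [← MorphismProperty.isomorphisms.iff, IsZariskiLocalAtTarget.iff_of_iSup_eq_top (P := MorphismProperty.isomorphisms Scheme)
      ![chart 1 k 0, chart 1 k 1] (top_le_iff.1 (by
        rw [← chart_cover k]; exact sup_le (le_iSup_of_le 0 le_rfl) (le_iSup_of_le 1 le_rfl)))]
    rw [Fin.forall_fin_two]
    constructor
    · exact (isIso_morphismRestrict_iff_isIso_app f (isAffineOpen_chart 1 k 0)).2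
        ((ConcreteCategory.isIso_iff_bijective _).2 (hbij 0 hn1))
    · exact (isIso_morphismRestrict_iff_isIso_app f (isAffineOpen_chart 1 k 1)).2
        ((ConcreteCategory.isIso_iff_bijective _).2 (hbij 1 hn1))

end Groth.Agent.P1SC24
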