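import Groth.Agent.P1SC24.Lattice
import Mathlib.RingTheory.Discriminant
import Mathlib.Algebra.Polynomial.Reverse

/-! # Gluing two lattices with unit discriminants on the projective line -/

set_option autoImplicit false

universe u

open Polynomial Module

namespace Groth.Agent.P1SC24

variable {k : Type u} [Field k] {L : Type u} [CommRing L] (ι₀ ι₁ : k[X] →+* L)

theorem exists_reflect (hC : ∀ c, ι₀ (C c) = ι₁ (C c)) (hX : ι₀ X * ι₁ X = 1) (a : ℕ) {p : k[X]}
    (hp : p ∈ degreeLT k (a + 1)) : ∃ q, ι₁ X ^ a * ι₀ p = ι₁ q := by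
  have hcoe : ∀ m ≤ a, ∀ c, ι₁ X ^ a * ι₀ (C c * X ^ m) = ι₁ (C c * X ^ (a - m)) := by
    intro m hm c
    obtain ⟨r, rfl⟩ := Nat.exists_eq_add_of_le hm
    rw [map_mul, map_mul, map_pow, map_pow, hC, Nat.add_sub_cancel_left]
    calc ι₁ X ^ (m + r) * (ι₁ (C c) * ι₀ X ^ m) = ι₁ (C c) * ι₁ X ^ r * (ι₀ X * ι₁ X) ^ m := by ring
      _ = _ := by rw [hX, one_pow, mul_one]
  refine ⟨∑ m ∈ Finset.range (a + 1), C (p.coeff m) * X ^ (a - m), ?_⟩
  have hdeg : p.natDegree < a + 1 := by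
    by_cases h : p = 0
    · simp [h]
    · exact (natDegree_lt_iff_degree_lt h).2 (mem_degreeLT.1 hp)
  conv_lhs => rw [as_sum_range_C_mul_X_pow' p hdeg]
  rw [map_sum, map_sum, Finset.mul_sum]
  exact Finset.sum_congr rfl fun m hm => hcoe m (by simpa [Nat.lt_succ_iff] using hm) _

/-- Two bases of a finite free algebra over the overlap, both of constant discriminant, admit an
`n`-dimensional space of common integral vectors. -/
theorem exists_common (hC : ∀ c, ι₀ (C c) = ι₁ (C c)) (hX : ι₀ X * ι₁ X = 1)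
    (hinj : Function.Injective ι₀) (hloc : ∀ l : L, ∃ (m : ℕ) (p : k[X]), ι₀ X ^ m * l = ι₀ p)
    {B : Type u} [CommRing B] [Algebra L B] {n : ℕ} (e g : Basis (Fin n) L B) {d₀ d₁ : k[X]}
    (hd₀ : IsUnit d₀) (hd₁ : IsUnit d₁) (he : Algebra.discr L e = ι₀ d₀) (hg : Algebra.discr L g = ι₁ d₁) :
    ∃ v : (Fin n → k) →ₗ[k] (Fin n → k[X]), Function.Injective v ∧
      ∀ c, ∃ w : Fin n → k[X], ∑ i, ι₀ (v c i) • e i = ∑ j, ι₁ (w j) • g j := by
  classical
  let N := g.toMatrix e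
  choose m p hp using fun ji : Fin n × Fin n => hloc (N ji.1 ji.2)
  let a := Finset.univ.sup m
  let A : Matrix (Fin n) (Fin n) k[X] := Matrix.of fun j i => X ^ (a - m (j, i)) * p (j, i)
  have hA : A.map ι₀ = ι₀ X ^ a • N := by
    ext j i
    simp only [Matrix.map_apply, A, Matrix.of_apply, map_mul, map_pow, Matrix.smul_apply, smul_eq_mul]
    rw [← hp (j, i), ← mul_assoc, ← pow_add,
      Nat.sub_add_cancel (Finset.le_sup (f := m) (Finset.mem_univ (j, i)))]
  have hdisc : Algebra.discr L e = N.det ^ 2 * Algebra.discr L g := by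
    rw [← Algebra.discr_of_matrix_vecMul]
    congr 1
    funext i
    show e i = ∑ j, g j * algebraMap L B (N j i)
    rw [← g.sum_toMatrix_smul_self e (j := i)]
    exact Finset.sum_congr rfl fun j _ => by rw [Algebra.smul_def, mul_comm]
  obtain ⟨c₀, hc₀, rfl⟩ := Polynomial.isUnit_iff.1 hd₀
  obtain ⟨c₁, hc₁, rfl⟩ := Polynomial.isUnit_iff.1 hd₁
  have hdet : ι₀ A.det = ι₀ X ^ (a * n) * N.det := by
    rw [RingHom.map_det, RingHom.mapMatrix_apply, hA, Matrix.det_smul, Fintype.card_fin, pow_mul]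
  have hkey : A.det ^ 2 * C c₁ = C c₀ * X ^ (a * n * 2) := hinj (by
    rw [map_mul, map_mul, map_pow, map_pow, hdet, hC c₁, ← hg, ← he, hdisc]
    ring)
  have hne : A.det ≠ 0 := by
    intro h
    rw [h, zero_pow two_ne_zero, zero_mul] at hkey
    exact mul_ne_zero (C_ne_zero.2 hc₀.ne_zero) (pow_ne_zero _ X_ne_zero) hkey.symm
  have hdeg : A.det.natDegree ≤ n * a := by
    have h := congrArg natDegree hkey
    rw [natDegree_mul_C hc₁.ne_zero, natDegree_C_mul_X_pow _ _ hc₀.ne_zero, natDegree_pow] at h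
    rw [Nat.mul_comm n a]
    omega
  obtain ⟨v, hv, hvA⟩ := exists_injective a A hne hdeg
  refine ⟨v, hv, fun c => ?_⟩
  choose w hw using fun j => exists_reflect ι₀ ι₁ hC hX a (hvA c j)
  refine ⟨w, ?_⟩
  have hNA : ∀ j, ∑ i, N j i * ι₀ (v c i) = ι₁ (w j) := by
    intro j
    rw [← hw j, Matrix.mulVec, dotProduct, map_sum, Finset.mul_sum]
    refine Finset.sum_congr rfl fun i _ => ?_
    have hAji : ι₀ (A j i) = ι₀ X ^ a * N j i := congrFun (congrFun hA j) i
    rw [map_mul, hAji, ← mul_assoc, ← mul_assoc, ← mul_pow, mul_comm (ι₁ X) (ι₀ X), hX, one_pow, one_mul]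
  calc ∑ i, ι₀ (v c i) • e i = ∑ i, ι₀ (v c i) • ∑ j, N j i • g j :=
        Finset.sum_congr rfl fun i _ => by rw [g.sum_toMatrix_smul_self]
    _ = ∑ j, (∑ i, N j i * ι₀ (v c i)) • g j := by
        simp only [Finset.smul_sum, Finset.sum_smul, smul_smul]
        rw [Finset.sum_comm]
        simp only [mul_comm]
    _ = _ := Finset.sum_congr rfl fun j _ => by rw [hNA]

end Groth.Agent.P1SC24
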