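import Mathlib.LinearAlgebra.FreeModule.Finite.Quotient
import Mathlib.LinearAlgebra.FreeModule.Determinant
import Mathlib.LinearAlgebra.Determinant
import Mathlib.RingTheory.AdjoinRoot
import Mathlib.RingTheory.Polynomial.Basic

/-! # The index of a polynomial lattice is the degree of the determinant -/

set_option autoImplicit false

universe u

open Polynomial Module

namespace Groth.Agent.P1SC24

variable {k : Type u} [Field k] {n : ℕ}

theorem finrank_quotient_range (φ : (Fin n → k[X]) →ₗ[k[X]] (Fin n → k[X])) (hφ : LinearMap.det φ ≠ 0) :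
    FiniteDimensional k ((Fin n → k[X]) ⧸ LinearMap.range φ) ∧
      finrank k ((Fin n → k[X]) ⧸ LinearMap.range φ) = (LinearMap.det φ).natDegree := by
  classical
  set b := Pi.basisFun k[X] (Fin n)
  have hinj : Function.Injective φ := by
    rw [← LinearMap.ker_eq_bot]
    by_contra h
    exact hφ (LinearMap.det_eq_zero_iff_ker_ne_bot.2 h)
  have h : finrank k[X] (LinearMap.range φ) = finrank k[X] (Fin n → k[X]) :=
    LinearMap.finrank_range_of_inj hinj
  let a := Submodule.smithNormalFormCoeffs b h
  let t := Submodule.smithNormalFormTopBasis b h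
  let s := Submodule.smithNormalFormBotBasis b h
  let e : (Fin n → k[X]) ≃ₗ[k[X]] (Fin n → k[X]) :=
    (LinearEquiv.ofInjective φ hinj).trans (s.equiv t (Equiv.refl _))
  let ψ : (Fin n → k[X]) →ₗ[k[X]] (Fin n → k[X]) := t.constr k[X] fun i => a i • t i
  have hψ : φ = ψ.comp e.toLinearMap := by
    have key : ∀ y : LinearMap.range φ, (y : Fin n → k[X]) = ψ (s.equiv t (Equiv.refl _) y) := by
      intro y
      have h2 : (LinearMap.range φ).subtype = ψ.comp (s.equiv t (Equiv.refl _)).toLinearMap :=
        s.ext fun i => by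
          simp only [Submodule.subtype_apply, LinearMap.comp_apply, LinearEquiv.coe_coe, Basis.equiv_apply,
            Equiv.refl_apply, ψ, Basis.constr_basis]
          exact Submodule.smithNormalFormBotBasis_def b h i
      exact LinearMap.congr_fun h2 y
    exact LinearMap.ext fun v => key (LinearEquiv.ofInjective φ hinj v)
  have hdet : Associated (LinearMap.det φ) (∏ i, a i) := by
    have : LinearMap.det ψ = ∏ i, a i := by
      rw [← LinearMap.det_toMatrix t]
      have : LinearMap.toMatrix t t ψ = Matrix.diagonal a := by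
        ext i j
        rw [LinearMap.toMatrix_apply, Basis.constr_basis, map_smul, Basis.repr_self]
        by_cases hij : j = i
        · subst hij; simp
        · simp [Matrix.diagonal_apply_ne' _ hij, Finsupp.single_apply, hij]
      rw [this, Matrix.det_diagonal]
    rw [← this]
    exact (LinearMap.associated_det_of_eq_comp e φ ψ fun v => by rw [hψ]; rfl)
  have ha : ∀ i, a i ≠ 0 := Submodule.smithNormalFormCoeffs_ne_zero b h
  haveI : ∀ i, FiniteDimensional k (k[X] ⧸ Ideal.span ({a i} : Set k[X])) := fun i =>
    PowerBasis.finite (AdjoinRoot.powerBasis (ha i))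
  haveI : Module.Finite k (Π i, k[X] ⧸ Ideal.span ({a i} : Set k[X])) := inferInstance
  refine ⟨Module.Finite.equiv ((Submodule.quotientEquivPiSpan _ b h).restrictScalars k).symm, ?_⟩
  rw [Submodule.finrank_quotient_eq_sum k b h, natDegree_eq_of_degree_eq (degree_eq_degree_of_associated hdet),
    natDegree_prod _ _ fun i _ => ha i]
  exact Finset.sum_congr rfl fun i _ => finrank_quotient_span_eq_natDegree

/-- If `det A` has degree at most `n * a`, at least an `n`-dimensional space of vectors `v` satisfies
`deg (A v)_j ≤ a` for all `j`. -/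
theorem exists_injective (a : ℕ) (A : Matrix (Fin n) (Fin n) k[X]) (hA : A.det ≠ 0)
    (hd : A.det.natDegree ≤ n * a) :
    ∃ g : (Fin n → k) →ₗ[k] (Fin n → k[X]), Function.Injective g ∧
      ∀ c j, A.mulVec (g c) j ∈ Polynomial.degreeLT k (a + 1) := by
  classical
  let φ : (Fin n → k[X]) →ₗ[k[X]] (Fin n → k[X]) := Matrix.mulVecLin A
  have hdet : LinearMap.det φ = A.det := LinearMap.det_toLin' A
  obtain ⟨hfin, hrank⟩ := finrank_quotient_range φ (hdet ▸ hA)
  let i : (Fin n → Polynomial.degreeLT k (a + 1)) →ₗ[k] (Fin n → k[X]) :=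
    LinearMap.pi fun j => (Polynomial.degreeLT k (a + 1)).subtype.comp (LinearMap.proj j)
  let q : (Fin n → k[X]) →ₗ[k] ((Fin n → k[X]) ⧸ LinearMap.range φ) :=
    (LinearMap.range φ).mkQ.restrictScalars k
  haveI : Module.Finite k (Polynomial.degreeLT k (a + 1)) := Module.Finite.equiv (degreeLTEquiv k (a + 1)).symm
  have h1 : finrank k (Fin n → Polynomial.degreeLT k (a + 1)) = n * (a + 1) := by
    rw [Module.finrank_pi_fintype, LinearEquiv.finrank_eq (degreeLTEquiv k (a + 1))]
    simp
  have h2 : n ≤ finrank k (LinearMap.ker (q.comp i)) := by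
    have h3 := LinearMap.finrank_range_add_finrank_ker (q.comp i)
    have h4 := Submodule.finrank_le (LinearMap.range (q.comp i))
    rw [hrank, hdet] at h4
    rw [h1, Nat.mul_succ] at h3
    omega
  obtain ⟨c, hc⟩ := exists_linearIndependent_of_le_finrank h2
  let g0 : (Fin n → k) →ₗ[k] LinearMap.ker (q.comp i) := Fintype.linearCombination k c
  have hg0 : Function.Injective g0 := hc.fintypeLinearCombination_injective
  let g1 : (Fin n → k) →ₗ[k] (Fin n → k[X]) := i.comp ((LinearMap.ker (q.comp i)).subtype.comp g0)
  have hg1 : Function.Injective g1 := fun x y hxy => hg0 (Subtype.ext (funext fun j =>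
    Subtype.ext (congrFun hxy j)))
  have hmem : ∀ x, ∃ v, A.mulVec v = g1 x := fun x => by
    have := (g0 x).2
    rw [LinearMap.mem_ker] at this
    exact (Submodule.Quotient.mk_eq_zero _).1 this
  have hAinj : Function.Injective A.mulVec := by
    intro x y hxy
    have := LinearMap.ker_eq_bot.1 (show LinearMap.ker φ = ⊥ by
      by_contra h; exact (hdet ▸ hA) (LinearMap.det_eq_zero_iff_ker_ne_bot.2 h))
    exact this hxy
  choose v hv using hmem
  refine ⟨{ toFun := v
            map_add' := fun x y => hAinj (by rw [hv, Matrix.mulVec_add, hv, hv, map_add])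
            map_smul' := fun r x => hAinj (by rw [hv, Matrix.mulVec_smul, hv, map_smul]; rfl) },
    fun x y hxy => hg1 (by rw [← hv x, ← hv y]; exact congrArg _ hxy), fun x j => ?_⟩
  show A.mulVec (v x) j ∈ _
  rw [hv]
  exact Subtype.coe_prop _

end Groth.Agent.P1SC24
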